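import Mathlib

/-!
Arithmetic for groups with a self-centralizing Sylow `p`-subgroup of order `p` and
`1 + n p` Sylow `p`-subgroups, `n` not of the form `(h u p + u ^ 2 + u + h) / (u + 1)` (Brauer 1943);
adapted from `SmallSimple.BrauerTypesArith`.
-/

set_option autoImplicit false

namespace Cfsg.Agent.H607.BP.Arith

/-- The hypothesis on `n`: it is not of the form `(h u p + u ^ 2 + u + h) / (u + 1)`. -/
def NoForm (p n : ℕ) : Prop :=
  ∀ h u : ℕ, 0 < h → 0 < u → n * (u + 1) ≠ h * u * p + u ^ 2 + u + h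

/-- The divisor lemma: a divisor `D ≡ 1 (mod p)` of `(p - 1)(1 + n p)`. -/
theorem master {p n D s : ℕ} (hp : 2 ≤ p) (hn : NoForm p n) (hD : D % p = 1)
    (h : D * s = (p - 1) * (1 + n * p)) : D = 1 ∨ D = 1 + n * p := by
  obtain ⟨q, rfl⟩ : ∃ q, p = q + 1 := ⟨p - 1, by omega⟩
  have hq : 1 ≤ q := by omega
  have hqq : q + 1 - 1 = q := by omega
  rw [hqq] at h
  obtain ⟨u, hu⟩ : ∃ u, D = u * (q + 1) + 1 := by
    refine ⟨D / (q + 1), ?_⟩
    have := Nat.mod_add_div D (q + 1)
    rw [hD] at this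
    rw [Nat.mul_comm (D / (q + 1)) (q + 1)]
    omega
  -- s + 1 is divisible by p
  have hs : (q + 1) ∣ (s + 1) := by
    have h1 : ((q + 1 : ℕ) : ℤ) ∣ ((s + 1 : ℕ) : ℤ) := by
      have h2 : (D : ℤ) * s = q * (1 + n * (q + 1)) := by exact_mod_cast h
      have h3 : (D : ℤ) = u * (q + 1) + 1 := by exact_mod_cast hu
      rw [h3] at h2
      refine ⟨1 + q * n - u * s, ?_⟩
      push_cast
      linarith
    exact_mod_cast h1
  obtain ⟨v, hv⟩ := hs
  have hv0 : 1 ≤ v := by
    rcases Nat.eq_zero_or_pos v with h0 | h0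
    · rw [h0] at hv; omega
    · exact h0
  -- main identity in ℤ
  have hmain : (q : ℤ) * (n - u * v) = (u + 1) * (v - 1) := by
    have h2 : (D : ℤ) * s = q * (1 + n * (q + 1)) := by exact_mod_cast h
    have h3 : (D : ℤ) = u * (q + 1) + 1 := by exact_mod_cast hu
    have h4 : (s : ℤ) = (q + 1) * v - 1 := by
      have : ((s + 1 : ℕ) : ℤ) = (((q + 1) * v : ℕ) : ℤ) := by exact_mod_cast hv
      push_cast at this
      linarith
    rw [h3, h4] at h2
    have h5 : ((q : ℤ) + 1) * ((q : ℤ) * (n - u * v) - (u + 1) * (v - 1)) = 0 := by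
      linarith [h2]
    have h6 : ((q : ℤ) + 1) ≠ 0 := by positivity
    have h7 := (mul_eq_zero.mp h5).resolve_left h6
    linarith
  rcases Nat.eq_zero_or_pos u with h0 | hu1
  · left; rw [hu, h0]; omega
  right
  rcases Nat.lt_or_ge 1 v with hv2 | hv2
  · exfalso
    have hpos : 0 < (q : ℤ) * (n - u * v) := by
      rw [hmain]
      have : (1 : ℤ) < v := by exact_mod_cast hv2
      have h1 : (0 : ℤ) < (v : ℤ) - 1 := by linarith
      positivity
    have hh : 0 < (n : ℤ) - u * v := by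
      have hq0 : (0 : ℤ) < q := by exact_mod_cast hq
      exact (pos_iff_pos_of_mul_pos hpos).mp hq0
    have hu1' : (1 : ℤ) ≤ u := by exact_mod_cast hu1
    have hv2' : (1 : ℤ) ≤ (v : ℤ) - 1 := by
      have : (2 : ℤ) ≤ v := by exact_mod_cast hv2
      linarith
    obtain ⟨h, hh'⟩ : ∃ h : ℕ, (h : ℤ) = (n : ℤ) - u * v :=
      ⟨((n : ℤ) - u * v).toNat, Int.toNat_of_nonneg hh.le⟩
    have hh1 : 0 < h := by
      have : (0 : ℤ) < h := hh' ▸ hh
      exact_mod_cast this
    refine hn h u hh1 hu1 ?_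
    have e1 : (n : ℤ) = u * v + h := by rw [hh']; ring
    have e2 : (q : ℤ) * h = (u + 1) * (v - 1) := by rw [hh']; exact hmain
    have e3 : (n : ℤ) * (u + 1) = h * u * (q + 1) + u ^ 2 + u + h := by
      rw [e1]
      linear_combination (-(u : ℤ)) * e2
    exact_mod_cast e3
  · have hv1 : v = 1 := by omega
    subst hv1
    have h1 : (q : ℤ) * (n - u) = 0 := by
      have := hmain
      push_cast at this
      linarith [this]
    have hq0 : (q : ℤ) ≠ 0 := by
      have : (1 : ℤ) ≤ q := by exact_mod_cast hq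
      linarith
    have h2 := (mul_eq_zero.mp h1).resolve_left hq0
    have h3 : (n : ℤ) = u := by linarith
    have h4 : n = u := by exact_mod_cast h3
    rw [hu, h4]; ring

variable {p n e t : ℕ}

/-- Degrees `≡ 1 (mod p)`. -/
theorem deg_pos {d : ℕ} (hp : 2 ≤ p) (hn : NoForm p n) (het : e * t = p - 1)
    (hd : d % p = 1) (hdvd : d ∣ e * (1 + n * p)) : d = 1 ∨ d = 1 + n * p := by
  obtain ⟨s, hs⟩ := hdvd
  refine master (s := s * t) hp hn hd ?_
  rw [← mul_assoc, ← hs, ← het]; ring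

theorem mod_of_mul {a b : ℕ} (hp : 2 ≤ p) (ha : (a + 1) % p = 0) (hab : (a * b + 1) % p = 0) :
    b % p = 1 := by
  have h1 : p ∣ a + 1 := Nat.dvd_of_mod_eq_zero ha
  have h2 : p ∣ a * b + 1 := Nat.dvd_of_mod_eq_zero hab
  have h3 : (p : ℤ) ∣ (b : ℤ) - 1 := by
    have h1' : (p : ℤ) ∣ (a : ℤ) + 1 := by exact_mod_cast h1
    have h2' : (p : ℤ) ∣ (a : ℤ) * b + 1 := by exact_mod_cast h2
    have : (b : ℤ) - 1 = ((a : ℤ) + 1) * b - ((a : ℤ) * b + 1) := by ring
    rw [this]
    exact dvd_sub (h1'.mul_right _) h2'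
  have h4 : (b : ℤ) % p = 1 % p :=
    Int.emod_eq_emod_iff_emod_sub_eq_zero.mpr (Int.emod_eq_zero_of_dvd h3)
  have h5 : (1 : ℤ) % p = 1 := Int.emod_eq_of_lt (by norm_num) (by exact_mod_cast hp)
  rw [h5] at h4
  exact_mod_cast h4

theorem prod_mod (hp : 2 ≤ p) : ((p - 1) * (1 + n * p) + 1) % p = 0 := by
  obtain ⟨q, rfl⟩ : ∃ q, p = q + 1 := ⟨p - 1, by omega⟩
  have : q + 1 - 1 = q := by omega
  rw [this]
  have h : q * (1 + n * (q + 1)) + 1 = (q + 1) * (1 + q * n) := by ring
  rw [h]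
  exact Nat.mul_mod_right _ _

theorem not_big (hp : 2 ≤ p) (hn1 : 1 ≤ n) (he : 1 ≤ e)
    (hsq : (e * (1 + n * p)) * (e * (1 + n * p)) ≤ p * e * (1 + n * p)) : False := by
  have h1 : 0 < e * (1 + n * p) := by positivity
  have h2 : e * (1 + n * p) ≤ p := by
    apply Nat.le_of_mul_le_mul_right _ h1
    calc (e * (1 + n * p)) * (e * (1 + n * p)) ≤ p * e * (1 + n * p) := hsq
      _ = p * (e * (1 + n * p)) := by ring
  have h3 : p < 1 + n * p := by nlinarith
  have h4 : 1 + n * p ≤ e * (1 + n * p) := Nat.le_mul_of_pos_left _ he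
  omega

/-- Degrees `≡ -1 (mod p)`. -/
theorem deg_neg {d : ℕ} (hp : 2 ≤ p) (hn : NoForm p n) (hn1 : 1 ≤ n) (he : 1 ≤ e)
    (het : e * t = p - 1)
    (hd : (d + 1) % p = 0) (hdvd : d ∣ e * (1 + n * p)) (hsq : d * d ≤ p * e * (1 + n * p)) :
    d = p - 1 := by
  obtain ⟨s, hs⟩ := hdvd
  have hprod : d * (s * t) = (p - 1) * (1 + n * p) := by
    rw [← mul_assoc, ← hs, ← het]; ring
  have hmod : (s * t) % p = 1 := by
    apply mod_of_mul hp hd
    rw [hprod]
    exact prod_mod hp
  rcases master (D := s * t) (s := d) hp hn hmod (by rw [mul_comm, hprod]) with h | h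
  · exfalso
    have hs1 : s = 1 := Nat.eq_one_of_mul_eq_one_right h
    rw [hs1, mul_one] at hs
    rw [← hs] at hsq
    exact not_big hp hn1 he hsq
  · rw [h] at hprod
    have h1 : 0 < 1 + n * p := by positivity
    exact Nat.eq_of_mul_eq_mul_right h1 hprod

/-- Exceptional degree, positive sign. -/
theorem exc_pos {c m : ℕ} (hp : 2 ≤ p) (hn : NoForm p n) (hn1 : 1 ≤ n) (he : 1 ≤ e)
    (het : e * t = p - 1)
    (hc : c = p * m + e) (hdvd : c ∣ e * (1 + n * p)) (hsq : c * c ≤ p * e * (1 + n * p)) :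
    c = e ∧ m = 0 := by
  obtain ⟨s, hs⟩ := hdvd
  have hprod : (c * t) * s = (p - 1) * (1 + n * p) := by
    rw [← het]
    calc (c * t) * s = (c * s) * t := by ring
      _ = (e * (1 + n * p)) * t := by rw [← hs]
      _ = _ := by ring
  have hct : (c * t + 1) % p = 0 := by
    rw [hc]
    have : (p * m + e) * t + 1 = p * (m * t + 1) := by
      have : e * t + 1 = p := by omega
      calc (p * m + e) * t + 1 = p * m * t + (e * t + 1) := by ring
        _ = p * m * t + p := by rw [this]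
        _ = _ := by ring
    rw [this]; exact Nat.mul_mod_right _ _
  have hmod : s % p = 1 := by
    apply mod_of_mul hp hct
    rw [hprod]
    exact prod_mod hp
  rcases master (D := s) (s := c * t) hp hn hmod (by rw [mul_comm, hprod]) with h | h
  · exfalso
    rw [h, mul_one] at hs
    rw [← hs] at hsq
    exact not_big hp hn1 he hsq
  · rw [h] at hs
    have h1 : 0 < 1 + n * p := by positivity
    have h2 := Nat.eq_of_mul_eq_mul_right h1 hs
    refine ⟨h2.symm, ?_⟩
    have h3 : p * m = 0 := by omega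
    rcases Nat.mul_eq_zero.mp h3 with h4 | h4
    · omega
    · exact h4

/-- Exceptional degree, negative sign. -/
theorem exc_neg {c m : ℕ} (hp : 2 ≤ p) (hn : NoForm p n)
    (het : e * t = p - 1) (hc1 : c ≠ 1)
    (hc : c + e = p * m) (hdvd : c ∣ e * (1 + n * p)) :
    c * t = 1 + n * p ∧ m * t = n + 1 := by
  obtain ⟨s, hs⟩ := hdvd
  have hprod : (c * t) * s = (p - 1) * (1 + n * p) := by
    rw [← het]
    calc (c * t) * s = (c * s) * t := by ring
      _ = (e * (1 + n * p)) * t := by rw [← hs]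
      _ = _ := by ring
  have hct0 : c * t + p = p * (m * t) + 1 := by
    have h1 : (c + e) * t = p * m * t := by rw [hc]
    have h2 : c * t + e * t = p * (m * t) := by rw [← add_mul, h1]; ring
    omega
  have hct : (c * t) % p = 1 := by
    have h1 : (c * t + p) % p = (p * (m * t) + 1) % p := by rw [hct0]
    rw [Nat.add_mod_right, Nat.mul_add_mod] at h1
    rw [h1]
    exact Nat.mod_eq_of_lt (by omega)
  rcases master (D := c * t) (s := s) hp hn hct hprod with h | h
  · exfalso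
    exact hc1 (Nat.eq_one_of_mul_eq_one_right h)
  · refine ⟨h, ?_⟩
    rw [h] at hct0
    have h1 : p * (m * t) = p * (n + 1) := by
      have : 1 + n * p + p = p * (n + 1) + 1 := by ring
      omega
    exact Nat.eq_of_mul_eq_mul_left (by omega) h1


end Cfsg.Agent.H607.BP.Arith
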