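import Mathlib
import Cfsg.Prelude.Def_Characters
import Cfsg.Agent.Characters.Core
import Cfsg.Agent.Characters.Linear
import Cfsg.Agent.SmallSimple.BrauerTypesArith
import Cfsg.Agent.SmallSimple.BrauerTypesBasic
import Cfsg.Agent.H607.BP.Types
import Cfsg.Agent.H607.BP.Main

/-!
Adapted from `SmallSimple.BrauerTypesProd` (hypothesis `NoForm p n`): the product of an exceptional character of degree
`e` with its complex conjugate.
-/

set_option autoImplicit false
set_option linter.unusedSectionVars false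
open Cfsg
open scoped ComplexConjugate

namespace Cfsg.Agent.H607.BP.Prod

open Cfsg.Agent.Characters.Core Cfsg.Agent.SmallSimple.BrauerTypesBasic
  Cfsg.Agent.SmallSimple.BrauerTypesArith Cfsg.Agent.H607.BP.Types
  Cfsg.Agent.H607.BP.Main
open Cfsg.Agent.SmallSimple.BrauerTypes (BData sum_const_off sum_linear)

universe u

variable {G : Type u} [Group G] [Finite G] {p n e t : ℕ} {P N : Subgroup G} [Fintype P] [Fintype N]

/-- `∑ l(x) conj l'(x)` -/
theorem sum_linear_mul (l l' : P →* ℂˣ) :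
    ∑ x : P, (l x : ℂ) * conj (l' x : ℂ) = if l = l' then (Nat.card P : ℂ) else 0 := by
  classical
  have hconj : ∀ x : P, conj (l' x : ℂ) = ((l'⁻¹ x : ℂˣ) : ℂ) := by
    intro x
    rw [MonoidHom.inv_apply, Units.val_inv_eq_inv_val]
    have h := Cfsg.Agent.Characters.Linear.norm_hom_apply l' x
    rw [Complex.inv_eq_conj h]
  have h1 : ∀ x : P, (l x : ℂ) * conj (l' x : ℂ) = (((l * l'⁻¹) x : ℂˣ) : ℂ) := by
    intro x
    rw [hconj x, MonoidHom.mul_apply, Units.val_mul]
  rw [Finset.sum_congr rfl fun x _ => h1 x]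
  split_ifs with h
  · subst h
    simp [Nat.card_eq_fintype_card]
  · apply sum_linear
    intro h2
    apply h
    exact mul_inv_eq_one.mp h2

variable (H : Hyp p n e t P N) (D : BData p P e t)
include H D

theorem case_two_final (hd : D.d = 1) (ht : 2 ≤ t) : n = 1 ∧ t = 2 := by
  classical
  have := Fintype.ofFinite G
  have := finite_irr (G := G)
  have := Fintype.ofFinite (IrrCharacter G)
  obtain ⟨Θ, hΘ⟩ := exists_X H D
  have hdeg := (X_pos H D hd hΘ).1
  set ψ : G → ℂ := fun g => (Θ : G → ℂ) g * conj ((Θ : G → ℂ) g) with hψ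
  have hψc : IsCharacter G ψ :=
    isCharacter_mul (isIrr_isCharacter Θ.2) (isCharacter_conj (isIrr_isCharacter Θ.2))
  obtain ⟨c, hc⟩ := isCharacter_iff.1 hψc
  -- multiplicity of the trivial character
  have hc1 : c (triv G) = 1 := by
    have h1 := coeff_triv hc
    have h2 : classInner ψ 1 = 1 := by
      rw [← classInner_irr_self Θ.2, classInner_def, classInner_def]
      congr 1
      refine Finset.sum_congr rfl fun g _ => ?_
      simp [hψ]
    rw [h2] at h1
    exact_mod_cast h1.symm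
  -- value at one
  have hdegsum : ∑ χ, c χ * deg χ = e ^ 2 := by
    have h1 := one_comb hc
    have h2 : ψ 1 = ((e ^ 2 : ℕ) : ℂ) := by
      simp only [hψ]
      rw [deg_spec, hdeg, Complex.conj_natCast]
      push_cast; ring
    rw [h2] at h1
    exact_mod_cast h1.symm
  -- fixed points of P
  have hval : ∀ x : P, (Θ : G → ℂ) x = ∑ l ∈ D.S Θ, (l x : ℂ) := by
    intro x
    by_cases hx : x = 1
    · subst hx
      rw [OneMemClass.coe_one, deg_spec, hdeg]
      simp only [map_one, Units.val_one, Finset.sum_const, nsmul_eq_mul, mul_one]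
      rw [D.card_S Θ hΘ]
    · rw [D.val_X Θ hΘ x hx, hd]
      simp
  have hfix : ∑ x : P, ψ x = (Nat.card P : ℂ) * (e : ℕ) := by
    have h1 : ∀ x : P, ψ x = ∑ l ∈ D.S Θ, ∑ l' ∈ D.S Θ, (l x : ℂ) * conj (l' x : ℂ) := by
      intro x
      simp only [hψ]
      rw [hval x, map_sum, Finset.sum_mul_sum]
    rw [Finset.sum_congr rfl fun x _ => h1 x, Finset.sum_comm]
    have h2 : ∀ l ∈ D.S Θ, ∑ x : P, ∑ l' ∈ D.S Θ, (l x : ℂ) * conj (l' x : ℂ) =
        (Nat.card P : ℂ) := by
      intro l hl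
      rw [Finset.sum_comm]
      rw [Finset.sum_congr rfl fun l' _ => sum_linear_mul l l']
      rw [Finset.sum_ite_eq, if_pos hl]
    rw [Finset.sum_congr rfl h2, Finset.sum_const, nsmul_eq_mul, D.card_S Θ hΘ]
    ring
  have hmult : ∑ χ, c χ * mult P χ = e := by
    have h1 := sum_comb P hc
    rw [hfix] at h1
    have h2 := mul_left_cancel₀ (card_ne P) h1
    exact_mod_cast h2.symm
  rw [sum_all D, hc1, mult_triv] at hmult
  rw [sum_all D, hc1, deg_triv] at hdegsum
  have hA1 : ∑ χ ∈ setA D, c χ * mult P χ = (∑ χ ∈ setA D, c χ) * (n + 1) := by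
    rw [Finset.sum_mul]
    exact Finset.sum_congr rfl fun χ hχ => by rw [(mem_A H D hχ).2]
  have hA2 : ∑ χ ∈ setA D, c χ * deg χ = (∑ χ ∈ setA D, c χ) * (1 + n * p) := by
    rw [Finset.sum_mul]
    exact Finset.sum_congr rfl fun χ hχ => by rw [(mem_A H D hχ).1]
  have hB1 : ∑ χ ∈ setB D, c χ * mult P χ = 0 :=
    Finset.sum_eq_zero fun χ hχ => by rw [(mem_B H D hχ).2.1, mul_zero]
  have hX1 : ∑ χ ∈ D.X, c χ * mult P χ = 0 :=
    Finset.sum_eq_zero fun χ hχ => by rw [(X_pos H D hd hχ).2, mul_zero]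
  have hR2 : ∑ χ ∈ setR D, c χ * deg χ = p * ∑ χ ∈ setR D, c χ * mult P χ := by
    rw [Finset.mul_sum]
    exact Finset.sum_congr rfl fun χ hχ => by rw [← mem_R H D hχ]; ring
  rw [hA1, hB1, hX1] at hmult
  rw [hA2, hR2] at hdegsum
  set M := ∑ χ ∈ setA D, c χ
  set F := ∑ χ ∈ setR D, c χ * mult P χ
  have hn1 : (1 : ℤ) ≤ n := by exact_mod_cast H.n_pos
  have he : (2 : ℤ) ≤ e := by exact_mod_cast H.he
  have ht' : (2 : ℤ) ≤ t := by exact_mod_cast ht
  have het : (e : ℤ) * t = p - 1 := by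
    rw [← p_cast H D, ← H.het]; push_cast; ring
  have h1 : (e : ℤ) - 1 = (n + 1) * M + F := by
    have : ((1 * 1 + (M * (n + 1) + 0) + 0 + F : ℕ) : ℤ) = e := by exact_mod_cast hmult
    push_cast at this
    linarith
  have h2 : (1 : ℤ) + M * (1 + n * p) + p * F ≤ e ^ 2 := by
    have h3 : 1 * 1 + M * (1 + n * p) + p * F ≤ e ^ 2 := by
      rw [← hdegsum]
      omega
    have h4 : ((1 * 1 + M * (1 + n * p) + p * F : ℕ) : ℤ) ≤ ((e ^ 2 : ℕ) : ℤ) := by
      exact_mod_cast h3
    push_cast at h4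
    linarith
  have := c_three hn1 he ht' het (by positivity) (by positivity) h1 h2
  exact ⟨by exact_mod_cast this.1, by exact_mod_cast this.2⟩

end Cfsg.Agent.H607.BP.Prod
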